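import Cfsg.Agent.H0.Pc
import Cfsg.Agent.H0.ML34.D
set_option maxRecDepth 100000
set_option Elab.async false
set_option linter.unusedSectionVars false
namespace H0.CL34
open H0 BN 
noncomputable def n14 : Net := (Net.cons (nat_lit 16) (nat_lit 0x123c) (Net.cons (nat_lit 8) (nat_lit 0x20052) (Net.cons (nat_lit 4) (nat_lit 0x20c0304) (Net.cons (nat_lit 2) (nat_lit 0x302200) (Net.cons (nat_lit 1) (nat_lit 0x10011440) (Net.cons (nat_lit 2) (nat_lit 0x2000) (Net.cons (nat_lit 4) (nat_lit 0x20c0808) (Net.cons (nat_lit 8) (nat_lit 0x9e) (Net.cons (nat_lit 16) (nat_lit 0x123c) Net.nil)))))))))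
noncomputable def n15 : Net := (Net.cons (nat_lit 16) (nat_lit 0x3040) (Net.cons (nat_lit 8) (nat_lit 0x300084) (Net.cons (nat_lit 4) (nat_lit 0x60400) (Net.cons (nat_lit 2) (nat_lit 0x20302) (Net.cons (nat_lit 1) (nat_lit 0x10004) (Net.cons (nat_lit 2) (nat_lit 0x20002) (Net.cons (nat_lit 4) (nat_lit 0x400) (Net.cons (nat_lit 8) (nat_lit 0x200004) (Net.cons (nat_lit 16) (nat_lit 0x3040) Net.nil)))))))))
noncomputable def n16 : Net := (Net.cons (nat_lit 16) (nat_lit 0xa4a8) (Net.cons (nat_lit 8) (nat_lit 0xa80002) (Net.cons (nat_lit 4) (nat_lit 0x80b0704) (Net.cons (nat_lit 2) (nat_lit 0x20030110) (Net.cons (nat_lit 1) (nat_lit 0x1404) (Net.cons (nat_lit 2) (nat_lit 0x2) (Net.cons (nat_lit 4) (nat_lit 0x8080604) (Net.cons (nat_lit 8) (nat_lit 0x2c0008) (Net.cons (nat_lit 16) (nat_lit 0xa4a8) Net.nil)))))))))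
noncomputable def n17 : Net := (Net.cons (nat_lit 16) (nat_lit 0x4bc) (Net.cons (nat_lit 8) (nat_lit 0x24005e) (Net.cons (nat_lit 4) (nat_lit 0x4080402) (Net.cons (nat_lit 2) (nat_lit 0x20221230) (Net.cons (nat_lit 1) (nat_lit 0x40155140) (Net.cons (nat_lit 2) (nat_lit 0x20200020) (Net.cons (nat_lit 4) (nat_lit 0x4080402) (Net.cons (nat_lit 8) (nat_lit 0x240016) (Net.cons (nat_lit 16) (nat_lit 0x4bc) Net.nil)))))))))
noncomputable def n18 : Net := (Net.cons (nat_lit 16) (nat_lit 0x488) (Net.cons (nat_lit 8) (nat_lit 0x140010) (Net.cons (nat_lit 4) (nat_lit 0x4080400) (Net.cons (nat_lit 2) (nat_lit 0x10032312) (Net.cons (nat_lit 1) (nat_lit 0x500) (Net.cons (nat_lit 4) (nat_lit 0x4080400) (Net.cons (nat_lit 8) (nat_lit 0x140010) (Net.cons (nat_lit 16) (nat_lit 0x488) Net.nil))))))))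
noncomputable def n19 : Net := (Net.cons (nat_lit 16) (nat_lit 0x4050) (Net.cons (nat_lit 8) (nat_lit 0x20088) (Net.cons (nat_lit 4) (nat_lit 0x40c060a) (Net.cons (nat_lit 2) (nat_lit 0x2013000) (Net.cons (nat_lit 1) (nat_lit 0x4400110) (Net.cons (nat_lit 2) (nat_lit 0x2000000) (Net.cons (nat_lit 4) (nat_lit 0x40c0602) (Net.cons (nat_lit 8) (nat_lit 0x20088) (Net.cons (nat_lit 16) (nat_lit 0x4050) Net.nil)))))))))
noncomputable def n20 : Net := (Net.cons (nat_lit 16) (nat_lit 0x56c2) (Net.cons (nat_lit 8) (nat_lit 0xd20000) (Net.cons (nat_lit 4) (nat_lit 0xa0804) (Net.cons (nat_lit 2) (nat_lit 0x32210230) (Net.cons (nat_lit 1) (nat_lit 0x14100140) (Net.cons (nat_lit 2) (nat_lit 0x22000220) (Net.cons (nat_lit 4) (nat_lit 0xe0004) (Net.cons (nat_lit 8) (nat_lit 0xd20000) (Net.cons (nat_lit 16) (nat_lit 0x56c0) Net.nil)))))))))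
noncomputable def n21 : Net := (Net.cons (nat_lit 16) (nat_lit 0xfdc2) (Net.cons (nat_lit 8) (nat_lit 0x6b0000) (Net.cons (nat_lit 4) (nat_lit 0xe04000d) (Net.cons (nat_lit 2) (nat_lit 0x33100010) (Net.cons (nat_lit 1) (nat_lit 0x41100040) (Net.cons (nat_lit 2) (nat_lit 0x2200020) (Net.cons (nat_lit 4) (nat_lit 0xe0c000c) (Net.cons (nat_lit 8) (nat_lit 0x2a0000) (Net.cons (nat_lit 16) (nat_lit 0xfdc0) Net.nil)))))))))
noncomputable def n22 : Net := (Net.cons (nat_lit 16) (nat_lit 0x7b5c) (Net.cons (nat_lit 8) (nat_lit 0x6e0020) (Net.cons (nat_lit 4) (nat_lit 0xc05040c) (Net.cons (nat_lit 2) (nat_lit 0x21022010) (Net.cons (nat_lit 1) (nat_lit 0x10144040) (Net.cons (nat_lit 2) (nat_lit 0x20020000) (Net.cons (nat_lit 4) (nat_lit 0x804040c) (Net.cons (nat_lit 8) (nat_lit 0x640020) (Net.cons (nat_lit 16) (nat_lit 0x7b5c) Net.nil)))))))))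
noncomputable def n23 : Net := (Net.cons (nat_lit 16) (nat_lit 0x4820) (Net.cons (nat_lit 8) (nat_lit 0x640013) (Net.cons (nat_lit 4) (nat_lit 0xc040802) (Net.cons (nat_lit 2) (nat_lit 0x30201) (Net.cons (nat_lit 1) (nat_lit 0x40011040) (Net.cons (nat_lit 2) (nat_lit 0x20020020) (Net.cons (nat_lit 4) (nat_lit 0xc04080a) (Net.cons (nat_lit 8) (nat_lit 0x640080) (Net.cons (nat_lit 16) (nat_lit 0x4820) Net.nil)))))))))
noncomputable def n24 : Net := (Net.cons (nat_lit 16) (nat_lit 0x5600) (Net.cons (nat_lit 8) (nat_lit 0x440000) (Net.cons (nat_lit 4) (nat_lit 0x60d000e) (Net.cons (nat_lit 2) (nat_lit 0x10132020) (Net.cons (nat_lit 1) (nat_lit 0x10440014) (Net.cons (nat_lit 2) (nat_lit 0x20002) (Net.cons (nat_lit 4) (nat_lit 0x6080804) (Net.cons (nat_lit 8) (nat_lit 0x440000) (Net.cons (nat_lit 16) (nat_lit 0x5600) Net.nil)))))))))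
noncomputable def n25 : Net := (Net.cons (nat_lit 16) (nat_lit 0xfaf2) (Net.cons (nat_lit 8) (nat_lit 0x720006) (Net.cons (nat_lit 4) (nat_lit 0x2090001) (Net.cons (nat_lit 2) (nat_lit 0x22030001) (Net.cons (nat_lit 1) (nat_lit 0x50510100) (Net.cons (nat_lit 2) (nat_lit 0x20000) (Net.cons (nat_lit 4) (nat_lit 0xa020000) (Net.cons (nat_lit 8) (nat_lit 0x180002) (Net.cons (nat_lit 16) (nat_lit 0xfaf2) Net.nil)))))))))
noncomputable def n26 : Net := (Net.cons (nat_lit 16) (nat_lit 0x14eb) (Net.cons (nat_lit 8) (nat_lit 0x2c0051) (Net.cons (nat_lit 4) (nat_lit 0xc080204) (Net.cons (nat_lit 2) (nat_lit 0x10122002) (Net.cons (nat_lit 1) (nat_lit 0x40041001) (Net.cons (nat_lit 2) (nat_lit 0x20000002) (Net.cons (nat_lit 4) (nat_lit 0xc080000) (Net.cons (nat_lit 8) (nat_lit 0x2c0050) (Net.cons (nat_lit 16) (nat_lit 0x14e8) Net.nil)))))))))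
noncomputable def nl2 : List Net := [n14, n15, n16, n17, n18, n19, n20, n21, n22, n23, n24, n25, n26]
theorem nl2_ok : allL (Net.ok (nat_lit 32)) nl2 = true := by decide +kernel
noncomputable def nl : List Net := [H0.ML34.n0, H0.ML34.n1, H0.ML34.n2, H0.ML34.n3, H0.ML34.n4, H0.ML34.n5, H0.ML34.n6, H0.ML34.n7, H0.ML34.n8, H0.ML34.n9, H0.ML34.n10, H0.ML34.n11, H0.ML34.n12, H0.ML34.n13, n14, n15, n16, n17, n18, n19, n20, n21, n22, n23, n24, n25, n26]
theorem nl_ok : allL (Net.ok (nat_lit 32)) nl = true := allL_append H0.ML34.nl_ok nl2_ok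
noncomputable def R : Rep := mkRep (nat_lit 5) (nat_lit 32) nl (by decide +kernel) nl_ok
def defs : List (List ℕ) := [[3, 7, 9, 9, 11], [3, 5, 7, 9, 7, 11, 11], [5, 5, 3, 9, 11, 11], [3, 3, 3], [3, 3], [3, 5, 5, 7, 9, 8, 7, 11], [5, 7, 9, 7], [1, 1, 1, 0, 3, 3, 5, 5, 9, 9, 11, 11], [9, 9], [1, 1, 0, 3, 9, 9], [5, 5, 3, 7, 9, 8, 9], [1, 1, 0, 1, 1, 0, 3, 7, 9, 9, 11], [0, 1, 0, 1, 8, 9, 11]]
def ach : List Model.Lev := [(1, [[14], [15], [18], [19]], 16), (2, [[14, 17, 19], [15, 16, 18, 19]], 4)]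
def aW : List (List (List ℕ)) := [[[18, 19], [15, 18], [16, 19], [17, 19], [18], [19]], [[], [16, 18], [17, 19], [18], [19]], [[18], [17, 18], [18], [19]], [[18], [18], [19]], [[], [19]], [[]]]
def aWs : List (List ℕ) := [[], [19], [18], [18, 19], [15], [14, 15, 16, 19], [14, 16, 18, 19], [15, 18], [15, 19], [14, 16, 18], [14, 15, 16, 18], [14, 15, 16, 18, 19], [14, 16], [15, 18, 19], [14, 16, 19], [14, 15, 16], [15, 16], [14, 17], [14, 15, 16, 17, 18, 19], [15, 16, 18, 19], [15, 16, 18], [15, 16, 19], [14, 17, 19], [14, 17, 18, 19], [14, 17, 18], [14, 15, 16, 17, 19], [14, 15, 16, 17, 18], [14, 15, 16, 17]]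
def aU : List (List ℕ × ℕ) := [([], 1), ([], 0), ([20], 0), ([20, 20], 0), ([21], 0), ([21, 20], 0), ([21, 20, 20], 0), ([14, 21], 0), ([17, 21], 0), ([20, 21], 0), ([14, 21, 20], 0), ([17, 21, 20], 0), ([17, 21, 20, 20], 0), ([17, 14, 21], 0), ([20, 14, 21], 0), ([21, 17, 21], 0), ([22], 0), ([22, 20], 0), ([22, 20, 20], 0), ([14, 22], 0), ([15, 22], 0), ([22, 22], 0), ([14, 22, 20], 0), ([15, 22, 20], 0), ([22, 22, 20], 0), ([14, 22, 20, 20], 0), ([15, 22, 20, 20], 0), ([22, 22, 20, 20], 0)]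
def aRs : List (List ℕ) := [[19]]
def bch : List Model.Lev := [(0, [[23]], 3), (1, [[24]], 3)]
def bW : List (List (List ℕ)) := [[[], [24]], [[]]]
def bWs : List (List ℕ) := [[], [24], [23], [24, 24], [23, 23], [23, 24], [23, 23, 24], [23, 23, 24, 24], [23, 24, 24]]
def bU : List (List ℕ × ℕ) := [([], 1), ([], 0), ([25], 0), ([25, 25], 0), ([25, 25, 25], 0), ([26], 0), ([26, 25], 0), ([26, 25, 25], 0), ([26, 25, 25, 25], 0)]
def bRs : List (List ℕ) := [[24]]
theorem c0 : Model.fixP R [1] [[14, 17, 19], [15, 16, 18, 19]] = true := by decide +kernel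
theorem c1 : Model.growP R [[14, 17, 19], [15, 16, 18, 19]] [0, 1] 2 4 = true := by decide +kernel
theorem c2 : Model.fixP R [] [[14], [15], [18], [19]] = true := by decide +kernel
theorem c3 : Model.growP R [[14], [15], [18], [19]] [0, 1, 2, 3] 1 16 = true := by decide +kernel
theorem c4 : pairsB R [3, 2, 1, 0] (((pcE 2 [14, 15, 16, 17, 18, 19] aW).drop 0).take 21) = true := by decide +kernel
theorem c5 : needB R [0, 1, 2, 3] 2 (2 ^ 1) [14, 15, 16, 17, 18, 19] aWs [] = true := by decide +kernel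
theorem c6 : pairsB R [3, 2, 1, 0] (((clsE aWs aU aRs).drop 0).take 28) = true := by decide +kernel
theorem c7 : Model.fixP R [0] [[24]] = true := by decide +kernel
theorem c8 : Model.growP R [[24]] [0, 0] 1 3 = true := by decide +kernel
theorem c9 : Model.fixP R [] [[23]] = true := by decide +kernel
theorem c10 : Model.growP R [[23]] [0, 0] 0 3 = true := by decide +kernel
theorem c11 : pairsB R [3, 2, 1, 0] (((pcE 3 [23, 24] bW).drop 0).take 3) = true := by decide +kernel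
theorem c12 : needB R [0, 1, 2, 3] 3 (3 ^ 1) [23, 24] bWs [] = true := by decide +kernel
theorem c13 : pairsB R [3, 2, 1, 0] (((clsE bWs bU bRs).drop 0).take 9) = true := by decide +kernel
theorem c14 : defsChk R defs 14 = true := by decide +kernel
end H0.CL34
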